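import Groth.Agent.Etbc.H193.IntClosed
import Groth.Agent.Pi1C.IndEtaleIC
import Groth.Agent.Proet.IndEtale
import Groth.Agent.Etrest.IntTensor
import Groth.Agent.Sga3A.GeomConn

/-!
# Connected fibres of ind-étale algebras via integral closure

* `connected_tensor`: `T` local and ind-étale over `Q`, `Q → L` injective and integrally closed
  imply that `Spec (T ⊗ L)` is connected.
-/

set_option autoImplicit false
universe u
open TensorProduct

namespace Groth.Agent.Etbc.H193.FibConn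

open IntClosed

/-- Ring homomorphisms out of a tensor product. -/
noncomputable def liftHom {A A' B C : Type*} [CommRing A] [CommRing A'] [CommRing B] [CommRing C]
    [Algebra A A'] [Algebra A B] (i1 : A' →+* C) (i2 : B →+* C)
    (h : i1.comp (algebraMap A A') = i2.comp (algebraMap A B)) : A' ⊗[A] B →+* C :=
  letI : Algebra A C := (i1.comp (algebraMap A A')).toAlgebra
  (Algebra.TensorProduct.lift (R := A) (S := A)
      ({ i1 with commutes' := fun _ => rfl } : A' →ₐ[A] C)
      ({ i2 with commutes' := fun a => (RingHom.congr_fun h a).symm } : B →ₐ[A] C)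
      (fun _ _ => Commute.all _ _)).toRingHom

theorem liftHom_tmul {A A' B C : Type*} [CommRing A] [CommRing A'] [CommRing B] [CommRing C]
    [Algebra A A'] [Algebra A B] (i1 : A' →+* C) (i2 : B →+* C)
    (h : i1.comp (algebraMap A A') = i2.comp (algebraMap A B)) (a : A') (b : B) :
    liftHom i1 i2 h (a ⊗ₜ b) = i1 a * i2 b := by
  let _ : Algebra A C := (i1.comp (algebraMap A A')).toAlgebra
  exact Algebra.TensorProduct.lift_tmul _ _ (fun _ _ => Commute.all _ _) a b

theorem hom_ext {A A' B C : Type*} [CommRing A] [CommRing A'] [CommRing B] [CommRing C]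
    [Algebra A A'] [Algebra A B] (f g : A' ⊗[A] B →+* C)
    (h1 : ∀ a : A', f (a ⊗ₜ 1) = g (a ⊗ₜ 1)) (h2 : ∀ b : B, f (1 ⊗ₜ b) = g (1 ⊗ₜ b)) : f = g := by
  ext x
  · exact h1 x
  · exact h2 x

/-- `T` local and ind-étale over `Q`, `Q → L` injective and integrally closed: then `T ⊗ L` has only
the trivial idempotents. -/
theorem connected_tensor {Q T L : Type u} [CommRing Q] [CommRing T] [CommRing L] [Algebra Q T]
    [Algebra Q L] (hT : EtPBC.IsIndEtale Q T) [IsLocalRing T]
    (hinj : Function.Injective (algebraMap Q L)) (hic : IC (algebraMap Q L)) :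
    ConnectedSpace (PrimeSpectrum (T ⊗[Q] L)) := by
  have hlaz : Pi1C.IndEtaleWE.Lazard Q T := by
    intro P _ _ _ g
    obtain ⟨W, a, b, u, v, c, h⟩ := (Proet.IndEtale.isIndEtale_iff_factor Q T).1 hT P inferInstance g
    exact ⟨W, a, b, c, u, v, h⟩
  have hflat : Module.Flat Q T := Pi1C.IndEtaleWE.flat_of_lazard hlaz
  have h1 : Function.Injective (algebraMap T (T ⊗[Q] L)) :=
    Algebra.TensorProduct.includeLeft_injective (S := T) hinj
  have h2 : IC (algebraMap T (T ⊗[Q] L)) :=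
    ic_of_bijective hic (Pi1C.IndEtaleIC.toIntegralClosure_bijective hlaz L)
  have hnt : Nontrivial (T ⊗[Q] L) := h1.nontrivial
  refine Sga3A.GeomConn.connectedSpace_of_idempotents _ fun e he => ?_
  have he' : e * e = e := he
  obtain ⟨t, ht⟩ := h2 e ⟨Polynomial.X ^ 2 - Polynomial.X,
    Polynomial.monic_X_pow_sub (by simp [Polynomial.degree_X]), by
      simp [pow_two, he']⟩
  have ht2 : t * t = t := by
    apply h1
    rw [map_mul, ht, he']
  rcases IsLocalRing.isUnit_or_isUnit_one_sub_self t with hu | hu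
  · right
    rw [← ht]
    have : t = 1 := hu.mul_left_cancel (by rw [ht2, mul_one])
    rw [this, map_one]
  · left
    rw [← ht]
    have h0 : (1 - t) * t = 0 := by rw [sub_mul, one_mul, ht2, sub_self]
    rw [(hu.mul_right_eq_zero).1 h0, map_zero]

section Main

open IsLocalRing

variable {Λ A R B : Type u} [CommRing Λ] [CommRing A] [CommRing R] [CommRing B] [Algebra Λ A]
  [Algebra Λ R] [Algebra A B] [IsLocalRing A] [IsLocalRing B] [IsLocalHom (algebraMap A B)]
  [IsSepClosed (ResidueField A)]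
  (rB : R →+* B) [Algebra (A ⊗[Λ] R) B]
  (hQB : ∀ a r, algebraMap (A ⊗[Λ] R) B (a ⊗ₜ r) = algebraMap A B a * rB r)
  {k' A' R'' Ω : Type u} [Field k'] [PerfectField k'] [CommRing A'] [CommRing R''] [Field Ω]
  [IsReduced R''] [Algebra A A'] [IsLocalRing A'] [Algebra.IsIntegral A A']
  [IsLocalHom (algebraMap A A')] [Algebra k' A'] [Algebra k' R''] (lam : Λ →+* k')
  (hA' : ∀ x, algebraMap k' A' (lam x) = algebraMap A A' (algebraMap Λ A x))
  (ρ : R →+* R'') (hρ : ∀ x, ρ (algebraMap Λ R x) = algebraMap k' R'' (lam x))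

omit [IsLocalRing A] [IsLocalRing B] [IsLocalHom (algebraMap A B)] [IsSepClosed (ResidueField A)] in
include hQB in
theorem comm_base (x : Λ) : algebraMap A B (algebraMap Λ A x) = rB (algebraMap Λ R x) := by
  have h1 := hQB (algebraMap Λ A x) 1
  have h2 := hQB 1 (algebraMap Λ R x)
  rw [map_one, mul_one] at h1
  rw [map_one, one_mul] at h2
  rw [← h1, ← h2]
  congr 1
  rw [Algebra.algebraMap_eq_smul_one, Algebra.algebraMap_eq_smul_one, TensorProduct.smul_tmul]

include hQB hA' hρ in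
/-- The main connectedness statement, abstract form. -/
theorem connected_fibre_aux (hB : EtPBC.IsIndEtale (A ⊗[Λ] R) B)
    (hgen : ∀ y : R'', y ∈ Submodule.span k' (Set.range ρ))
    (hlift : ∀ (F : Type u) [Field F] (α : k' →+* F) (β : R →+* F),
      (∀ x, α (lam x) = β (algebraMap Λ R x)) →
      ∃ γ : R'' →+* F, (∀ c, γ (algebraMap k' R'' c) = α c) ∧ ∀ r, γ (ρ r) = β r)
    [Algebra A Ω] [Algebra A' Ω] [IsScalarTower A A' Ω]
    (hinj : Function.Injective (algebraMap A' Ω)) (hic : IC (algebraMap A' Ω)) :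
    ConnectedSpace (PrimeSpectrum (B ⊗[A] Ω)) := by
  let _ : Algebra k' Ω := ((algebraMap A' Ω).comp (algebraMap k' A')).toAlgebra
  have : IsScalarTower k' A' Ω := .of_algebraMap_eq' rfl
  let φ : A' →ₐ[k'] Ω := IsScalarTower.toAlgHom k' A' Ω
  let Q := A ⊗[Λ] R
  let Q2 := R'' ⊗[k'] A'
  let L := R'' ⊗[k'] Ω
  let iA : A' →+* Q2 := (Algebra.TensorProduct.includeRight : A' →ₐ[k'] R'' ⊗[k'] A').toRingHom
  let iR : R'' →+* Q2 := Algebra.TensorProduct.includeLeftRingHom
  have hiAR : ∀ c : k', iA (algebraMap k' A' c) = iR (algebraMap k' R'' c) := by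
    intro c
    change (1 : R'') ⊗ₜ[k'] (algebraMap k' A' c) = (algebraMap k' R'' c) ⊗ₜ[k'] (1 : A')
    rw [Algebra.algebraMap_eq_smul_one, Algebra.algebraMap_eq_smul_one, TensorProduct.smul_tmul]
  have hiQ : (iA.comp (algebraMap A A')).comp (algebraMap Λ A) =
      (iR.comp ρ).comp (algebraMap Λ R) := by
    ext x
    simp only [RingHom.comp_apply]
    rw [hρ, ← hA', hiAR]
  let iQ : Q →+* Q2 := liftHom (iA.comp (algebraMap A A')) (iR.comp ρ) hiQ
  have hiQt : ∀ a r, iQ (a ⊗ₜ r) = iA (algebraMap A A' a) * iR (ρ r) := fun a r =>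
    liftHom_tmul _ _ hiQ a r
  let _ : Algebra Q Q2 := iQ.toAlgebra
  let T := Q2 ⊗[Q] B
  have hT : EtPBC.IsIndEtale Q2 T := Proet.IndEtale.isIndEtale_baseChange Q B Q2 hB
  let _ : Algebra Q2 L := (bcm k' R'' φ).toRingHom.toAlgebra
  have hinjL : Function.Injective (algebraMap Q2 L) :=
    Module.Flat.lTensor_preserves_injective_linearMap φ.toLinearMap hinj
  have hicL : IC (algebraMap Q2 L) := ic_tensor φ hic
  -- homomorphisms to fields
  have homT : ∀ (F : Type u) [Field F] (α : A' →+* F) (β : B →+* F),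
      (∀ a, α (algebraMap A A' a) = β (algebraMap A B a)) →
      ∃ (γ : R'' →+* F) (ψ : T →+* F),
        (∀ c, γ (algebraMap k' R'' c) = α (algebraMap k' A' c)) ∧
        (∀ b, ψ (1 ⊗ₜ b) = β b) ∧ (∀ x a', ψ ((x ⊗ₜ a') ⊗ₜ 1) = γ x * α a') := by
    intro F _ α β hαβ
    obtain ⟨γ, h1, h2⟩ := hlift F (α.comp (algebraMap k' A')) (β.comp rB) (fun x => by
      simp only [RingHom.comp_apply]
      rw [hA', hαβ, comm_base rB hQB])
    have hγα : γ.comp (algebraMap k' R'') = α.comp (algebraMap k' A') := RingHom.ext h1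
    let δ : Q2 →+* F := liftHom γ α hγα
    have hδ : ∀ x a', δ (x ⊗ₜ a') = γ x * α a' := liftHom_tmul γ α hγα
    have hδβ : δ.comp (algebraMap Q Q2) = β.comp (algebraMap Q B) := by
      apply hom_ext
      · intro a
        change δ (iQ (a ⊗ₜ 1)) = β (algebraMap (A ⊗[Λ] R) B (a ⊗ₜ 1))
        rw [hiQt, hQB, map_one, map_one, map_one, mul_one, mul_one, ← hαβ]
        change δ (1 ⊗ₜ (algebraMap A A' a)) = _
        rw [hδ, map_one, one_mul]
      · intro r
        change δ (iQ (1 ⊗ₜ r)) = β (algebraMap (A ⊗[Λ] R) B (1 ⊗ₜ r))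
        rw [hiQt, hQB, map_one, map_one, map_one, one_mul, one_mul]
        change δ ((ρ r) ⊗ₜ 1) = _
        rw [hδ, map_one, mul_one]
        exact h2 r
    let ψ : T →+* F := liftHom δ β hδβ
    have hψ : ∀ q b, ψ (q ⊗ₜ b) = δ q * β b := liftHom_tmul δ β hδβ
    refine ⟨γ, ψ, h1, fun b => ?_, fun x a' => ?_⟩
    · rw [hψ, map_one, one_mul]
    · rw [hψ, map_one, mul_one, hδ]
  -- a common extension of the residue fields
  obtain ⟨F, _, α, β, hαβ⟩ : ∃ (F : Type u) (_ : Field F) (α : A' →+* F) (β : B →+* F),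
      ∀ a, α (algebraMap A A' a) = β (algebraMap A B a) := by
    let F := AlgebraicClosure (ResidueField B)
    let _ : Algebra (ResidueField A) F :=
      ((algebraMap (ResidueField B) F).comp (algebraMap (ResidueField A) (ResidueField B))).toAlgebra
    have : Algebra.IsAlgebraic (ResidueField A) (ResidueField A') :=
      Etrest.IntTensor.isAlgebraic_residueField A A'
    let l : ResidueField A' →ₐ[ResidueField A] F := IsAlgClosed.lift
    refine ⟨F, inferInstance, l.toRingHom.comp (residue A'),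
      (algebraMap (ResidueField B) F).comp (residue B), fun a => ?_⟩
    exact l.commutes (residue A a)
  have hntT : Nontrivial T := by
    obtain ⟨γ, ψ, -⟩ := homT F α β hαβ
    exact ψ.domain_nontrivial
  have hntT0 : Nontrivial (A' ⊗[A] B) :=
    (liftHom α β (RingHom.ext hαβ)).domain_nontrivial
  have hloc0 : IsLocalRing (A' ⊗[A] B) := Etrest.IntTensor.isLocalRing_tensor A A' B
  -- `A' ⊗ B → T` is surjective
  let jA : A' →+* T := (algebraMap Q2 T).comp iA
  let jB : B →+* T := (Algebra.TensorProduct.includeRight : B →ₐ[Q] Q2 ⊗[Q] B).toRingHom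
  have hmove : ∀ q : Q, algebraMap Q2 T (iQ q) = jB (algebraMap Q B q) := by
    intro q
    change (iQ q) ⊗ₜ[Q] (1 : B) = (1 : Q2) ⊗ₜ[Q] (algebraMap Q B q)
    have : iQ q = q • (1 : Q2) := by rw [← Algebra.algebraMap_eq_smul_one]; rfl
    rw [this, Algebra.algebraMap_eq_smul_one, TensorProduct.smul_tmul]
  have hjAB : jA.comp (algebraMap A A') = jB.comp (algebraMap A B) := by
    ext a
    have h1 := hmove (a ⊗ₜ 1)
    have h2 := hQB a 1
    rw [hiQt, map_one, map_one, mul_one] at h1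
    rw [map_one, mul_one] at h2
    simp only [RingHom.comp_apply, jA]
    rw [h1]
    exact congrArg jB h2
  let π : A' ⊗[A] B →+* T := liftHom jA jB hjAB
  have hπ : ∀ a b, π (a ⊗ₜ b) = jA a * jB b := liftHom_tmul jA jB hjAB
  have hr1 : ∀ a, jA a ∈ π.range := fun a => ⟨a ⊗ₜ 1, by rw [hπ, map_one, mul_one]⟩
  have hr2 : ∀ b, jB b ∈ π.range := fun b => ⟨1 ⊗ₜ b, by rw [hπ, map_one, one_mul]⟩
  have hr3 : ∀ x : R'', algebraMap Q2 T (iR x) ∈ π.range := by
    intro x
    refine Submodule.span_induction (p := fun x _ => algebraMap Q2 T (iR x) ∈ π.range)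
      ?_ ?_ ?_ ?_ (hgen x)
    · rintro _ ⟨r, rfl⟩
      have h1 := hmove (1 ⊗ₜ r)
      rw [hiQt, map_one, map_one, one_mul] at h1
      rw [h1]
      exact hr2 _
    · rw [map_zero, map_zero]; exact zero_mem _
    · intro x y _ _ hx hy
      rw [map_add, map_add]; exact add_mem hx hy
    · intro c x _ hx
      rw [Algebra.smul_def, map_mul, map_mul, ← hiAR]
      exact mul_mem (hr1 _) hx
  have hπs : Function.Surjective π := by
    intro t
    change t ∈ π.range
    induction t using TensorProduct.induction_on with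
    | zero => exact zero_mem _
    | add x y hx hy => exact add_mem hx hy
    | tmul q b =>
      have h0 : q ⊗ₜ[Q] b = algebraMap Q2 T q * jB b := by
        change q ⊗ₜ[Q] b = (q ⊗ₜ[Q] (1 : B)) * ((1 : Q2) ⊗ₜ[Q] b)
        rw [Algebra.TensorProduct.tmul_mul_tmul, mul_one, one_mul]
      rw [h0]
      refine mul_mem ?_ (hr2 b)
      induction q using TensorProduct.induction_on with
      | zero => rw [map_zero]; exact zero_mem _
      | add x y hx hy => rw [map_add]; exact add_mem (hx (by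
          change x ⊗ₜ[Q] b = (x ⊗ₜ[Q] (1 : B)) * ((1 : Q2) ⊗ₜ[Q] b)
          rw [Algebra.TensorProduct.tmul_mul_tmul, mul_one, one_mul])) (hy (by
          change y ⊗ₜ[Q] b = (y ⊗ₜ[Q] (1 : B)) * ((1 : Q2) ⊗ₜ[Q] b)
          rw [Algebra.TensorProduct.tmul_mul_tmul, mul_one, one_mul]))
      | tmul x a =>
        have h2 : x ⊗ₜ[k'] a = iR x * iA a := by
          change x ⊗ₜ[k'] a = (x ⊗ₜ[k'] (1 : A')) * ((1 : R'') ⊗ₜ[k'] a)
          rw [Algebra.TensorProduct.tmul_mul_tmul, mul_one, one_mul]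
        rw [h2, map_mul]
        exact mul_mem (hr3 x) (hr1 a)
  have hlocT : IsLocalRing T := IsLocalRing.of_surjective' π hπs
  have hconn : ConnectedSpace (PrimeSpectrum (T ⊗[Q2] L)) := connected_tensor hT hinjL hicL
  -- the comparison map
  let cT : T →+* T ⊗[Q2] L := Algebra.TensorProduct.includeLeftRingHom
  let cL : L →+* T ⊗[Q2] L := (Algebra.TensorProduct.includeRight : L →ₐ[Q2] T ⊗[Q2] L).toRingHom
  have hc : ∀ q : Q2, cT (algebraMap Q2 T q) = cL (algebraMap Q2 L q) := by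
    intro q
    change (algebraMap Q2 T q) ⊗ₜ[Q2] (1 : L) = (1 : T) ⊗ₜ[Q2] (algebraMap Q2 L q)
    rw [Algebra.algebraMap_eq_smul_one, Algebra.algebraMap_eq_smul_one, TensorProduct.smul_tmul]
  let lΩ : Ω →+* L := (Algebra.TensorProduct.includeRight : Ω →ₐ[k'] R'' ⊗[k'] Ω).toRingHom
  have hu : (cT.comp jB).comp (algebraMap A B) = (cL.comp lΩ).comp (algebraMap A Ω) := by
    rw [RingHom.comp_assoc, ← hjAB]
    ext a
    simp only [RingHom.comp_apply, jA]
    rw [hc]
    congr 1
    change bcm k' R'' φ (1 ⊗ₜ (algebraMap A A' a)) = 1 ⊗ₜ (algebraMap A Ω a)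
    rw [Algebra.TensorProduct.map_tmul, map_one]
    congr 1
    exact (IsScalarTower.algebraMap_apply A A' Ω a).symm
  let u := liftHom (C := T ⊗[Q2] L) (cT.comp jB) (cL.comp lΩ) hu
  have hut : ∀ b ω, u (b ⊗ₜ ω) = cT (jB b) * cL (lΩ ω) := liftHom_tmul _ _ hu
  have hub : ∀ b, u (b ⊗ₜ 1) = ((1 : Q2) ⊗ₜ[Q] b) ⊗ₜ[Q2] (1 : L) := by
    intro b
    rw [hut, map_one, map_one]
    exact mul_one (cT (jB b))
  have huω : ∀ ω, u (1 ⊗ₜ ω) = (1 : T) ⊗ₜ[Q2] ((1 : R'') ⊗ₜ[k'] ω) := by
    intro ω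
    rw [hut, map_one, map_one]
    exact one_mul (cL (lΩ ω))
  have hsurj : Function.Surjective (PrimeSpectrum.comap (R := B ⊗[A] Ω) (S := T ⊗[Q2] L) u) := by
    intro z
    let F := z.asIdeal.ResidueField
    let q : B ⊗[A] Ω →+* F := algebraMap _ _
    have hq : RingHom.ker q = z.asIdeal := Ideal.ker_algebraMap_residueField _
    let qB : B →+* F := q.comp Algebra.TensorProduct.includeLeftRingHom
    let qΩ : Ω →+* F := q.comp (Algebra.TensorProduct.includeRight : Ω →ₐ[A] B ⊗[A] Ω).toRingHom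
    have hqq : ∀ a, qΩ (algebraMap A Ω a) = qB (algebraMap A B a) := by
      intro a
      have h0 : (1 : B) ⊗ₜ[A] (algebraMap A Ω a) = (algebraMap A B a) ⊗ₜ[A] (1 : Ω) := by
        rw [Algebra.algebraMap_eq_smul_one, Algebra.algebraMap_eq_smul_one,
          TensorProduct.smul_tmul]
      exact congrArg q h0
    obtain ⟨γ, ψ, h1, h2, h3⟩ := homT F (qΩ.comp (algebraMap A' Ω)) qB (fun a => by
      rw [← hqq, RingHom.comp_apply, ← IsScalarTower.algebraMap_apply])
    have hε : γ.comp (algebraMap k' R'') = qΩ.comp (algebraMap k' Ω) := RingHom.ext h1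
    let ε : L →+* F := liftHom γ qΩ hε
    have hεt : ∀ x ω, ε (x ⊗ₜ ω) = γ x * qΩ ω := liftHom_tmul γ qΩ hε
    have hχ : ψ.comp (algebraMap Q2 T) = ε.comp (algebraMap Q2 L) := by
      apply hom_ext
      · intro x
        change ψ ((x ⊗ₜ 1) ⊗ₜ 1) = ε (bcm k' R'' φ (x ⊗ₜ 1))
        rw [h3, Algebra.TensorProduct.map_tmul, hεt, map_one, map_one, map_one]
        rfl
      · intro a
        change ψ ((1 ⊗ₜ a) ⊗ₜ 1) = ε (bcm k' R'' φ (1 ⊗ₜ a))
        rw [h3, Algebra.TensorProduct.map_tmul, hεt]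
        rfl
    let χ := liftHom (C := F) ψ ε hχ
    have hχt : ∀ t l, χ (t ⊗ₜ l) = ψ t * ε l := liftHom_tmul ψ ε hχ
    have hcomp : χ.comp u = q := by
      apply hom_ext
      · intro b
        rw [RingHom.comp_apply, hub, hχt, map_one, mul_one, h2]
        rfl
      · intro ω
        rw [RingHom.comp_apply, huω, hχt, map_one, one_mul, hεt, map_one, one_mul]
        rfl
    refine ⟨⟨RingHom.ker χ, RingHom.ker_isPrime χ⟩, ?_⟩
    apply PrimeSpectrum.ext
    change (RingHom.ker χ).comap u = z.asIdeal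
    rw [RingHom.comap_ker, hcomp, hq]
  exact hsurj.connectedSpace (PrimeSpectrum.continuous_comap u)

end Main

end Groth.Agent.Etbc.H193.FibConn
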