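import Groth.Agent.Etbc.H193.FibConn
import Groth.Agent.S0427

/-!
# Connected geometric fibres of strictly henselian local rings over a point-like base

* `exists_red`: the reduced fibre algebra;
* `connected_fibre`: `Λ` local with nil maximal ideal, `A` strictly henselian over `Λ`, `B` local and
  ind-étale over `A ⊗[Λ] R`; then `Spec (B ⊗[A] Ω)` is connected for `Ω` algebraically closed.
-/

set_option autoImplicit false
universe u
open TensorProduct

namespace Groth.Agent.Etbc.H193.FibField

open IntClosed FibConn IsLocalRing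

theorem exists_red {Λ R : Type u} [CommRing Λ] [CommRing R] [Algebra Λ R] {k' : Type u} [Field k']
    (lam : Λ →+* k') :
    ∃ (R'' : Type u) (_ : CommRing R'') (_ : Algebra k' R'') (_ : IsReduced R'') (ρ : R →+* R''),
      (∀ x, ρ (algebraMap Λ R x) = algebraMap k' R'' (lam x)) ∧
      (∀ y : R'', y ∈ Submodule.span k' (Set.range ρ)) ∧
      (∀ (F : Type u) [Field F] (α : k' →+* F) (β : R →+* F),
        (∀ x, α (lam x) = β (algebraMap Λ R x)) →
        ∃ γ : R'' →+* F, (∀ c, γ (algebraMap k' R'' c) = α c) ∧ ∀ r, γ (ρ r) = β r) := by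
  let _ : Algebra Λ k' := lam.toAlgebra
  let R₁ := k' ⊗[Λ] R
  let R'' := R₁ ⧸ nilradical R₁
  let ir : R →+* R₁ := (Algebra.TensorProduct.includeRight : R →ₐ[Λ] k' ⊗[Λ] R).toRingHom
  have hir : ∀ r, ir r = 1 ⊗ₜ r := fun _ => rfl
  let mk : R₁ →+* R'' := Ideal.Quotient.mk (nilradical R₁)
  have hmk : ∀ c : k', mk (c ⊗ₜ 1) = algebraMap k' R'' c := fun _ => rfl
  have hred : IsReduced R'' := by
    rw [← Ideal.isRadical_iff_quotient_reduced]
    exact Ideal.radical_isRadical ⊥
  refine ⟨R'', inferInstance, inferInstance, hred, mk.comp ir, ?_, ?_, ?_⟩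
  · intro x
    rw [RingHom.comp_apply, hir, ← hmk]
    congr 1
    change (1 : k') ⊗ₜ[Λ] (algebraMap Λ R x) = (algebraMap Λ k' x) ⊗ₜ[Λ] (1 : R)
    rw [Algebra.algebraMap_eq_smul_one, Algebra.algebraMap_eq_smul_one, TensorProduct.smul_tmul]
  · intro y
    obtain ⟨y, rfl⟩ := Ideal.Quotient.mk_surjective y
    change mk y ∈ _
    induction y using TensorProduct.induction_on with
    | zero => rw [map_zero]; exact zero_mem _
    | add x y hx hy => rw [map_add]; exact add_mem hx hy
    | tmul c r =>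
      have h1 : mk (c ⊗ₜ[Λ] r) = c • mk (ir r) := by
        rw [Algebra.smul_def, ← hmk, ← map_mul, hir, Algebra.TensorProduct.tmul_mul_tmul, mul_one,
          one_mul]
      rw [h1]
      exact Submodule.smul_mem _ _ (Submodule.subset_span ⟨r, rfl⟩)
  · intro F _ α β hαβ
    have hc : α.comp (algebraMap Λ k') = β.comp (algebraMap Λ R) := RingHom.ext hαβ
    let δ : R₁ →+* F := liftHom α β hc
    have hδ : ∀ c r, δ (c ⊗ₜ r) = α c * β r := liftHom_tmul α β hc
    have hn : ∀ z ∈ nilradical R₁, δ z = 0 := by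
      intro z hz
      exact ((mem_nilradical.1 hz).map δ).eq_zero
    refine ⟨Ideal.Quotient.lift (nilradical R₁) δ hn, ?_, ?_⟩
    · intro c
      rw [← hmk]
      change δ (c ⊗ₜ 1) = _
      rw [hδ, map_one, mul_one]
    · intro r
      change δ (1 ⊗ₜ r) = _
      rw [hδ, map_one, one_mul]

/-- The main connectedness statement. -/
theorem connected_fibre {Λ A R B : Type u} [CommRing Λ] [IsLocalRing Λ]
    (hΛ : ∀ x ∈ maximalIdeal Λ, IsNilpotent x)
    [CommRing A] [HenselianLocalRing A] [IsSepClosed (ResidueField A)] [CommRing R] [CommRing B]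
    [IsLocalRing B] [Algebra Λ A] [Algebra Λ R] [Algebra A B] [IsLocalHom (algebraMap A B)]
    (rB : R →+* B) [Algebra (A ⊗[Λ] R) B]
    (hQB : ∀ a r, algebraMap (A ⊗[Λ] R) B (a ⊗ₜ r) = algebraMap A B a * rB r)
    (hB : EtPBC.IsIndEtale (A ⊗[Λ] R) B)
    (Ω : Type u) [Field Ω] [IsAlgClosed Ω] [Algebra A Ω] :
    ConnectedSpace (PrimeSpectrum (B ⊗[A] Ω)) := by
  let κ := ResidueField Λ
  let θ : κ →+* Ω := Ideal.Quotient.lift (maximalIdeal Λ) ((algebraMap A Ω).comp (algebraMap Λ A))
    (fun x hx => ((hΛ x hx).map ((algebraMap A Ω).comp (algebraMap Λ A))).eq_zero)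
  have hθ : ∀ x : Λ, θ (residue Λ x) = algebraMap A Ω (algebraMap Λ A x) := fun _ => rfl
  let _ : Algebra κ Ω := θ.toAlgebra
  let k' := algebraicClosure κ Ω
  have hk' : IsAlgClosed k' := (algebraicClosure.isAlgClosure κ Ω).isAlgClosed
  let A' := integralClosure A Ω
  have hdom : IsDomain A' := inferInstance
  have hint : Algebra.IsIntegral A A' := inferInstance
  have hlocA' : IsLocalRing A' := Groth.Agent.S0427.isLocalRing_of_isIntegral A A'
  have hlh : IsLocalHom (algebraMap A A') := by
    have hm : ((maximalIdeal A').comap (algebraMap A A')).IsMaximal :=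
      Ideal.isMaximal_comap_of_isIntegral_of_isMaximal (maximalIdeal A')
    have := IsLocalRing.eq_maximalIdeal hm
    exact ((IsLocalRing.local_hom_TFAE (algebraMap A A')).out 0 4).2 this
  have hmem : ∀ c : k', (c : Ω) ∈ A' := by
    intro c
    have h1 : IsIntegral κ (c : Ω) := (mem_algebraicClosure_iff.1 c.2).isIntegral
    obtain ⟨p, hp, hpc⟩ := h1
    have h2 := Polynomial.lifts_and_degree_eq_and_monic (f := residue Λ) (p := p)
      (Polynomial.mem_lifts _ |>.2 (Polynomial.map_surjective _ residue_surjective p)) hp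
    obtain ⟨q, hq1, -, hq3⟩ := h2
    refine ⟨q.map (algebraMap Λ A), hq3.map _, ?_⟩
    rw [Polynomial.eval₂_map]
    have h3 : (algebraMap A Ω).comp (algebraMap Λ A) = (algebraMap κ Ω).comp (residue Λ) := by
      ext x
      exact (hθ x).symm
    rw [h3, ← Polynomial.eval₂_map, hq1]
    exact hpc
  let j : k' →+* A' := (algebraMap k' Ω).codRestrict A' hmem
  let _ : Algebra k' A' := j.toAlgebra
  let lam : Λ →+* k' := (algebraMap κ k').comp (residue Λ)
  obtain ⟨R'', _, _, _, ρ, hρ, hgen, hlift⟩ := exists_red (R := R) lam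
  refine connected_fibre_aux (k' := k') (A' := A') rB hQB lam ?_ ρ hρ hB hgen hlift ?_ ?_
  · intro x
    apply Subtype.ext
    exact hθ x
  · exact Subtype.val_injective
  · intro x hx
    have h1 : IsIntegral A' x := hx
    have h2 : IsIntegral A x := isIntegral_trans (R := A) (A := A') x h1
    exact ⟨⟨x, h2⟩, rfl⟩

end Groth.Agent.Etbc.H193.FibField
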