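import Mathlib.RingTheory.Smooth.IntegralClosure
import Mathlib.RingTheory.TensorProduct.DirectLimitFG
import Mathlib.LinearAlgebra.TensorProduct.RightExactness
import Groth.Agent.FlatB.GenFibRed

/-!
# Integrally closed ring maps and base change by reduced algebras over a perfect field

* `IC f`: every element of the target integral over the source comes from the source;
* `ic_of_bijective`: `IC` is preserved by base changes commuting with integral closure;
* `ic_tensor`: for `k` perfect, `R` a reduced `k`-algebra and `A → Ω` integrally closed,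
  `R ⊗[k] A → R ⊗[k] Ω` is integrally closed.
-/

set_option autoImplicit false
universe u
open TensorProduct

namespace Groth.Agent.Etbc.H193.IntClosed

/-- Every element of `B` integral over `A` comes from `A`. -/
def IC {A B : Type*} [CommRing A] [CommRing B] (f : A →+* B) : Prop :=
  ∀ x : B, f.IsIntegralElem x → x ∈ f.range

theorem IC.of_equiv {A B A' B' : Type*} [CommRing A] [CommRing B] [CommRing A'] [CommRing B']
    {f : A →+* B} (hf : IC f) (e : A ≃+* A') (e' : B ≃+* B') (g : A' →+* B')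
    (h : g.comp e.toRingHom = e'.toRingHom.comp f) : IC g := by
  intro x hx
  obtain ⟨p, hp, hpx⟩ := hx
  have hcomp : (e'.symm.toRingHom.comp g) = f.comp e.symm.toRingHom := by
    ext a
    have := RingHom.congr_fun h (e.symm a)
    simp only [RingHom.comp_apply, RingEquiv.toRingHom_eq_coe, RingHom.coe_coe,
      RingEquiv.apply_symm_apply] at this ⊢
    rw [this, RingEquiv.symm_apply_apply]
  have h1 : f.IsIntegralElem (e'.symm x) := by
    refine ⟨p.map e.symm.toRingHom, hp.map _, ?_⟩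
    rw [Polynomial.eval₂_map, ← hcomp]
    have := Polynomial.hom_eval₂ p g e'.symm.toRingHom x
    rw [hpx, map_zero] at this
    exact this.symm
  obtain ⟨a, ha⟩ := hf _ h1
  refine ⟨e a, ?_⟩
  have := RingHom.congr_fun h a
  simp only [RingHom.comp_apply, RingEquiv.toRingHom_eq_coe, RingHom.coe_coe] at this
  rw [this, ha, RingEquiv.apply_symm_apply]

/-- A base change commuting with integral closure preserves `IC`. -/
theorem ic_of_bijective {A S Ω : Type*} [CommRing A] [CommRing S] [CommRing Ω] [Algebra A S]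
    [Algebra A Ω] (hA : IC (algebraMap A Ω))
    (h : Function.Bijective (TensorProduct.toIntegralClosure A S Ω)) :
    IC (algebraMap S (S ⊗[A] Ω)) := by
  intro x hx
  obtain ⟨w, hw⟩ := h.2 ⟨x, hx⟩
  have h2 : ∀ w : S ⊗[A] integralClosure A Ω, ∃ s : S,
      algebraMap S (S ⊗[A] Ω) s =
      ((TensorProduct.toIntegralClosure A S Ω w : integralClosure S (S ⊗[A] Ω)) : S ⊗[A] Ω) := by
    intro w
    induction w using TensorProduct.induction_on with
    | zero => exact ⟨0, by simp⟩
    | add x y hx hy =>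
      obtain ⟨s, hs⟩ := hx
      obtain ⟨t, ht⟩ := hy
      exact ⟨s + t, by rw [map_add, map_add, hs, ht]; rfl⟩
    | tmul s y =>
      obtain ⟨a, ha⟩ := hA y.1 y.2
      refine ⟨a • s, ?_⟩
      simp only [TensorProduct.toIntegralClosure, AlgHom.coe_codRestrict,
        Algebra.TensorProduct.map_tmul, AlgHom.coe_id, id_eq, Subalgebra.coe_val]
      rw [← ha, Algebra.TensorProduct.algebraMap_apply, Algebra.algebraMap_self, RingHom.id_apply,
        Algebra.algebraMap_eq_smul_one, TensorProduct.tmul_smul, TensorProduct.smul_tmul']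
  obtain ⟨s, hs⟩ := h2 w
  refine ⟨s, ?_⟩
  rw [hs, hw]

section Field

variable (k R : Type*) {A Ω : Type*} [Field k] [CommRing R] [CommRing A] [CommRing Ω]
  [Algebra k R] [Algebra k A] [Algebra k Ω] (φ : A →ₐ[k] Ω)

/-- `R ⊗ A → R ⊗ Ω`. -/
noncomputable abbrev bcm : R ⊗[k] A →ₐ[k] R ⊗[k] Ω := Algebra.TensorProduct.map (AlgHom.id k R) φ

/-- The case of smooth `R`. -/
theorem ic_smooth [Algebra.Smooth k R] (hφ : IC φ.toRingHom) : IC (bcm k R φ).toRingHom := by
  let _ : Algebra A Ω := φ.toRingHom.toAlgebra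
  have : IsScalarTower k A Ω := .of_algebraMap_eq' φ.comp_algebraMap.symm
  have h1 := TensorProduct.toIntegralClosure_bijective_of_smooth (R := A) (S := A ⊗[k] R) (B := Ω)
  have h2 : IC (algebraMap (A ⊗[k] R) ((A ⊗[k] R) ⊗[A] Ω)) := ic_of_bijective hφ h1
  let e1 : (A ⊗[k] R) ≃+* R ⊗[k] A := (Algebra.TensorProduct.comm k A R).toRingEquiv
  let e2 : ((A ⊗[k] R) ⊗[A] Ω) ≃+* R ⊗[k] Ω :=
    ((Algebra.TensorProduct.comm A (A ⊗[k] R) Ω).toRingEquiv.trans
      (Algebra.TensorProduct.cancelBaseChange k A A Ω R).toRingEquiv).trans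
      (Algebra.TensorProduct.comm k Ω R).toRingEquiv
  refine h2.of_equiv e1 e2 _ ?_
  ext x
  · change (bcm k R φ) (Algebra.TensorProduct.comm k A R (x ⊗ₜ 1)) =
      (Algebra.TensorProduct.comm k Ω R) (Algebra.TensorProduct.cancelBaseChange k A A Ω R
        (Algebra.TensorProduct.comm A (A ⊗[k] R) Ω ((x ⊗ₜ 1) ⊗ₜ 1)))
    simp [RingHom.algebraMap_toAlgebra, Algebra.smul_def]
  · change (bcm k R φ) (Algebra.TensorProduct.comm k A R (1 ⊗ₜ x)) =
      (Algebra.TensorProduct.comm k Ω R) (Algebra.TensorProduct.cancelBaseChange k A A Ω R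
        (Algebra.TensorProduct.comm A (A ⊗[k] R) Ω ((1 ⊗ₜ x) ⊗ₜ 1)))
    simp

/-- Naturality in `R`. -/
theorem bcm_naturality {R' : Type*} [CommRing R'] [Algebra k R'] (i : R →ₐ[k] R') (z : R ⊗[k] A) :
    bcm k R' φ (Algebra.TensorProduct.map i (AlgHom.id k A) z) =
      Algebra.TensorProduct.map i (AlgHom.id k Ω) (bcm k R φ z) := by
  rw [← AlgHom.comp_apply, ← AlgHom.comp_apply]
  congr 1
  ext x <;> simp

/-- Integrality is preserved by base change in `R`. -/
theorem isIntegralElem_map {R' : Type*} [CommRing R'] [Algebra k R'] (i : R →ₐ[k] R')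
    (z : R ⊗[k] Ω) (hz : (bcm k R φ).toRingHom.IsIntegralElem z) :
    (bcm k R' φ).toRingHom.IsIntegralElem (Algebra.TensorProduct.map i (AlgHom.id k Ω) z) := by
  obtain ⟨p, hp, hpz⟩ := hz
  refine ⟨p.map (Algebra.TensorProduct.map i (AlgHom.id k A)).toRingHom, hp.map _, ?_⟩
  rw [Polynomial.eval₂_map]
  have h1 : (bcm k R' φ).toRingHom.comp (Algebra.TensorProduct.map i (AlgHom.id k A)).toRingHom =
      (Algebra.TensorProduct.map i (AlgHom.id k Ω)).toRingHom.comp (bcm k R φ).toRingHom :=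
    RingHom.ext fun x => bcm_naturality k R φ i x
  rw [h1]
  have h2 := Polynomial.hom_eval₂ p (bcm k R φ).toRingHom
    (Algebra.TensorProduct.map i (AlgHom.id k Ω)).toRingHom z
  rw [hpz, map_zero] at h2
  exact h2.symm

/-- Descent of membership in the image along an injective map `R → R'`. -/
theorem mem_range_of_map_mem_range {R' : Type*} [CommRing R'] [Algebra k R'] (i : R →ₐ[k] R')
    (hi : Function.Injective i) (z : R ⊗[k] Ω)
    (hz : Algebra.TensorProduct.map i (AlgHom.id k Ω) z ∈ (bcm k R' φ).toRingHom.range) :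
    z ∈ (bcm k R φ).toRingHom.range := by
  let M := Ω ⧸ (LinearMap.range φ.toLinearMap)
  let π : Ω →ₗ[k] M := (LinearMap.range φ.toLinearMap).mkQ
  have hex : Function.Exact φ.toLinearMap π := by
    rw [LinearMap.exact_iff, Submodule.ker_mkQ]
  have hsurj : Function.Surjective π := Submodule.mkQ_surjective _
  have ex1 : Function.Exact (LinearMap.lTensor R φ.toLinearMap) (LinearMap.lTensor R π) :=
    lTensor_exact R hex hsurj
  have ex2 : Function.Exact (LinearMap.lTensor R' φ.toLinearMap) (LinearMap.lTensor R' π) :=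
    lTensor_exact R' hex hsurj
  have hb : ∀ (w : R ⊗[k] A), bcm k R φ w = LinearMap.lTensor R φ.toLinearMap w := fun w => rfl
  have hb' : ∀ (w : R' ⊗[k] A), bcm k R' φ w = LinearMap.lTensor R' φ.toLinearMap w := fun w => rfl
  have hinj : Function.Injective (LinearMap.rTensor M i.toLinearMap) :=
    Module.Flat.rTensor_preserves_injective_linearMap _ hi
  have h0 : LinearMap.rTensor M i.toLinearMap (LinearMap.lTensor R π z) =
      LinearMap.lTensor R' π (Algebra.TensorProduct.map i (AlgHom.id k Ω) z) := by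
    have h1 : (LinearMap.rTensor M i.toLinearMap).comp (LinearMap.lTensor R π) =
        (LinearMap.lTensor R' π).comp (LinearMap.rTensor Ω i.toLinearMap) := by
      rw [LinearMap.rTensor_comp_lTensor, LinearMap.lTensor_comp_rTensor]
    exact LinearMap.congr_fun h1 z
  obtain ⟨w, hw⟩ := hz
  have h2 : LinearMap.lTensor R π z = 0 := by
    apply hinj
    rw [h0, map_zero, ← hw]
    exact ex2.apply_apply_eq_zero w
  obtain ⟨y, hy⟩ := (ex1 z).1 h2
  exact ⟨y, hy⟩

/-- The case of reduced `R` of finite type. -/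
theorem ic_finiteType {k R A Ω : Type u} [Field k] [PerfectField k] [CommRing R] [CommRing A]
    [CommRing Ω] [Algebra k R] [Algebra k A] [Algebra k Ω] (φ : A →ₐ[k] Ω)
    [Algebra.FiniteType k R] [IsReduced R] (hφ : IC φ.toRingHom) : IC (bcm k R φ).toRingHom := by
  obtain ⟨g, hg, hsm⟩ := FlatB.GenFibRed.exists_nonZeroDivisor_smooth k R
  intro z hz
  let i : R →ₐ[k] Localization.Away g := IsScalarTower.toAlgHom k R _
  have hi : Function.Injective i :=
    IsLocalization.injective (Localization.Away g) (M := Submonoid.powers g)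
      (Submonoid.powers_le.mpr hg)
  exact mem_range_of_map_mem_range k R φ i hi z
    (ic_smooth k (Localization.Away g) φ hφ _ (isIntegralElem_map k R φ i z hz))

theorem exists_fg_of_finite (s : Set (R ⊗[k] A)) (hs : s.Finite) :
    ∃ R₀ : Subalgebra k R, R₀.FG ∧
      s ⊆ Set.range (Algebra.TensorProduct.map R₀.val (AlgHom.id k A)) := by
  induction s, hs using Set.Finite.induction_on with
  | empty => exact ⟨⊥, Subalgebra.fg_bot, Set.empty_subset _⟩
  | @insert a s _ _ ih =>
    obtain ⟨R₁, h1, h2⟩ := ih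
    obtain ⟨R₂, h3, h4⟩ := TensorProduct.Algebra.exists_of_fg a
    refine ⟨R₁ ⊔ R₂, h1.sup h3, ?_⟩
    have key : ∀ (R₃ R₄ : Subalgebra k R) (hle : R₃ ≤ R₄),
        Set.range (Algebra.TensorProduct.map R₃.val (AlgHom.id k A)) ⊆
          Set.range (Algebra.TensorProduct.map R₄.val (AlgHom.id k A)) := by
      rintro R₃ R₄ hle _ ⟨w, rfl⟩
      refine ⟨Algebra.TensorProduct.map (Subalgebra.inclusion hle) (AlgHom.id k A) w, ?_⟩
      rw [← AlgHom.comp_apply, ← Algebra.TensorProduct.map_comp]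
      rfl
    rw [Set.insert_subset_iff]
    refine ⟨key _ _ le_sup_right ?_, h2.trans (key _ _ le_sup_left)⟩
    obtain ⟨w, hw⟩ := h4
    exact ⟨w, hw⟩

/-- For `k` perfect, `R` reduced and `A → Ω` integrally closed, `R ⊗ A → R ⊗ Ω` is integrally
closed. -/
theorem ic_tensor {k R A Ω : Type u} [Field k] [PerfectField k] [CommRing R] [CommRing A]
    [CommRing Ω] [Algebra k R] [Algebra k A] [Algebra k Ω] (φ : A →ₐ[k] Ω)
    [IsReduced R] (hφ : IC φ.toRingHom) : IC (bcm k R φ).toRingHom := by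
  intro z hz
  obtain ⟨p, hp, hpz⟩ := hz
  obtain ⟨R₁, hR₁, h1⟩ := exists_fg_of_finite k R (A := A) (p.coeffs : Set (R ⊗[k] A))
    p.coeffs.finite_toSet
  obtain ⟨R₂, hR₂, h2⟩ := exists_fg_of_finite k R (A := Ω) {z} (Set.finite_singleton z)
  let R₀ := R₁ ⊔ R₂
  have hR₀ : R₀.FG := hR₁.sup hR₂
  have hft : Algebra.FiniteType k R₀ := (Subalgebra.fg_iff_finiteType _).1 hR₀
  have hred : IsReduced R₀ := isReduced_of_injective R₀.val Subtype.val_injective
  let ι : R₀ ⊗[k] A →ₐ[k] R ⊗[k] A := Algebra.TensorProduct.map R₀.val (AlgHom.id k A)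
  let ι' : R₀ ⊗[k] Ω →ₐ[k] R ⊗[k] Ω := Algebra.TensorProduct.map R₀.val (AlgHom.id k Ω)
  have hι' : Function.Injective ι' :=
    Module.Flat.rTensor_preserves_injective_linearMap R₀.val.toLinearMap Subtype.val_injective
  have hlift : p ∈ Polynomial.lifts ι.toRingHom := by
    rw [Polynomial.lifts_iff_coeff_lifts]
    intro n
    by_cases hn : p.coeff n = 0
    · rw [hn]; exact ⟨0, map_zero _⟩
    · obtain ⟨w, hw⟩ := h1 (Polynomial.coeff_mem_coeffs hn)
      refine ⟨Algebra.TensorProduct.map (Subalgebra.inclusion (le_sup_left : R₁ ≤ R₀))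
        (AlgHom.id k A) w, ?_⟩
      change ι _ = _
      rw [← hw, ← AlgHom.comp_apply, ← Algebra.TensorProduct.map_comp]
      rfl
  obtain ⟨q, hq1, -, hq2⟩ := Polynomial.lifts_and_natDegree_eq_and_monic hlift hp
  obtain ⟨w, hw⟩ := h2 rfl
  let z₀ : R₀ ⊗[k] Ω := Algebra.TensorProduct.map (Subalgebra.inclusion (le_sup_right : R₂ ≤ R₀))
    (AlgHom.id k Ω) w
  have hz₀ : ι' z₀ = z := by
    rw [← hw, ← AlgHom.comp_apply, ← Algebra.TensorProduct.map_comp]
    rfl
  have hint : (bcm k R₀ φ).toRingHom.IsIntegralElem z₀ := by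
    refine ⟨q, hq2, ?_⟩
    apply hι'
    rw [map_zero, ← hpz, ← hq1, Polynomial.eval₂_map]
    have h3 : (bcm k R φ).toRingHom.comp ι.toRingHom = ι'.toRingHom.comp (bcm k R₀ φ).toRingHom :=
      RingHom.ext fun x => bcm_naturality k R₀ φ R₀.val x
    rw [h3, ← hz₀]
    exact Polynomial.hom_eval₂ q (bcm k R₀ φ).toRingHom ι'.toRingHom z₀
  obtain ⟨y, hy⟩ := ic_finiteType φ hφ z₀ hint
  refine ⟨ι y, ?_⟩
  have h4 := bcm_naturality k R₀ φ R₀.val y
  change bcm k R φ (ι y) = z
  refine h4.trans ?_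
  have hy' : bcm k R₀ φ y = z₀ := hy
  rw [hy']
  exact hz₀

end Field

end Groth.Agent.Etbc.H193.IntClosed
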