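import Groth.Agent.VarietyA.StalkBC
import Groth.Agent.CalgC.IndEtale
import Groth.Agent.Hensel.HenselPerm
import Groth.Agent.Proet.IndEtale
import Groth.Agent.Etbc.H193.FibConn

/-!
# Local rings of fibre products are ind-étale over tensor products of local rings

* `exists_j`: `Spec (A ⊗[Λ] R) ⟶ X ×_Y Y₁` is a flat monomorphism, for flat monomorphisms `Spec A ⟶ Y₁`,
  `Spec R ⟶ X` and a monomorphism `Spec Λ ⟶ Y`;
* `isIndEtale_of_flat_mono`: local rings of `X₁` are ind-étale over `P` for a flat monomorphism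
  `Spec P ⟶ X₁` through which `Spec 𝒪_{X₁,x}` factors;
* `isIndEtale_tensor`: strict henselizations of local rings of a fibre product are ind-étale over tensor
  products.
-/

set_option autoImplicit false
universe u

open CategoryTheory CategoryTheory.Limits AlgebraicGeometry TensorProduct

namespace Groth.Agent.Etbc.H193.PbkLocal

open Groth.Agent.VarietyA.StalkBC Groth.Agent.Etbc.H193.FibConn

theorem isIndEtale_of_isLocalization {A : Type u} [CommRing A] (M : Submonoid A) (C : Type u)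
    [CommRing C] [Algebra A C] [IsLocalization M C] : EtPBC.IsIndEtale A C := by
  rw [Proet.IndEtale.isIndEtale_iff_factor]
  intro Z _ _ _ g
  obtain ⟨E, a, b, c, ψ, χ, h⟩ := CalgC.IndEtale.isIndEtale_of_isLocalization M C Z g
  exact ⟨E, a, b, ψ, χ, c, h⟩

theorem isIndEtale_of_isStrictHenselization (A R : Type u) [CommRing A] [IsLocalRing A]
    [CommRing R] [IsLocalRing R] [Algebra A R] [IsLocalHom (algebraMap A R)]
    [Hensel.IsStrictHenselization A R] : EtPBC.IsIndEtale A R := by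
  rw [Proet.IndEtale.isIndEtale_iff_factor]
  intro Z _ _ _ g
  obtain ⟨E, a, b, c, ψ, χ, h⟩ := Hensel.HenselPerm.lazardEtale_of_isStrictHenselization A R Z g
  exact ⟨E, a, b, ψ, χ, c, h⟩

section FlatMono

variable {X Y X₁ Y₁ : Scheme.{u}} {g : X ⟶ Y} {b : Y₁ ⟶ Y} {b' : X₁ ⟶ X} {g₁ : X₁ ⟶ Y₁}
  (H : IsPullback b' g₁ g b)
  {Λ A R : Type u} [CommRing Λ] [CommRing A] [CommRing R] [Algebra Λ A] [Algebra Λ R]
  (i : Spec (CommRingCat.of Λ) ⟶ Y) [Mono i] (jA : Spec (CommRingCat.of A) ⟶ Y₁)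
  (jR : Spec (CommRingCat.of R) ⟶ X)
  (hA : Spec.map (CommRingCat.ofHom (algebraMap Λ A)) ≫ i = jA ≫ b)
  (hR : Spec.map (CommRingCat.ofHom (algebraMap Λ R)) ≫ i = jR ≫ g)

include H hA hR in
theorem exists_j [Flat jA] [Flat jR] [Mono jA] [Mono jR] :
    ∃ j : Spec (CommRingCat.of (A ⊗[Λ] R)) ⟶ X₁, Flat j ∧ Mono j ∧
      j ≫ g₁ = Spec.map (CommRingCat.ofHom
        (Algebra.TensorProduct.includeLeftRingHom (R := Λ) (A := A) (B := R))) ≫ jA ∧
      j ≫ b' = Spec.map (CommRingCat.ofHom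
        (Algebra.TensorProduct.includeRight (R := Λ) (A := A) (B := R)).toRingHom) ≫ jR := by
  let sL := Spec.map (CommRingCat.ofHom
        (Algebra.TensorProduct.includeLeftRingHom (R := Λ) (A := A) (B := R)))
  let sR := Spec.map (CommRingCat.ofHom
        (Algebra.TensorProduct.includeRight (R := Λ) (A := A) (B := R)).toRingHom)
  have h0 : IsPullback sL sR (Spec.map (CommRingCat.ofHom (algebraMap Λ A)))
      (Spec.map (CommRingCat.ofHom (algebraMap Λ R))) :=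
    isPullback_SpecMap_of_isPushout _ _ _ _ (CommRingCat.isPushout_tensorProduct Λ A R)
  have h1 : IsPullback sL sR (jA ≫ b) (jR ≫ g) := by
    rw [← hA, ← hR]
    exact ⟨⟨by rw [reassoc_of% h0.w]⟩, ⟨PullbackCone.isLimitOfCompMono _ _ i _ h0.isLimit⟩⟩
  let e : Spec (CommRingCat.of (A ⊗[Λ] R)) ≅ pullback (jA ≫ b) (jR ≫ g) := h1.isoPullback
  let e' : pullback b g ≅ X₁ := H.flip.isoPullback.symm
  let k : pullback (jA ≫ b) (jR ≫ g) ⟶ pullback b g :=
    pullback.map (jA ≫ b) (jR ≫ g) b g jA jR (𝟙 _) (by simp) (by simp)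
  have hk : Flat k :=
    MorphismProperty.pullbackMap (P := @Flat) inferInstance inferInstance rfl rfl
  have hk' : Mono k :=
    MorphismProperty.pullbackMap (P := MorphismProperty.monomorphisms Scheme.{u})
      (MorphismProperty.monomorphisms.infer_property _)
      (MorphismProperty.monomorphisms.infer_property _) rfl rfl
  refine ⟨e.hom ≫ k ≫ e'.hom, inferInstance, inferInstance, ?_, ?_⟩
  · have h2 : e'.hom ≫ g₁ = pullback.fst b g := H.flip.isoPullback_inv_fst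
    rw [Category.assoc, Category.assoc, h2, pullback.lift_fst, ← Category.assoc,
      h1.isoPullback_hom_fst]
  · have h2 : e'.hom ≫ b' = pullback.snd b g := H.flip.isoPullback_inv_snd
    rw [Category.assoc, Category.assoc, h2, pullback.lift_snd, ← Category.assoc,
      h1.isoPullback_hom_snd]

end FlatMono

theorem isIndEtale_of_flat_mono {P : Type u} [CommRing P] {X₁ : Scheme.{u}}
    (j : Spec (CommRingCat.of P) ⟶ X₁) [Flat j] [Mono j] (x : X₁)
    [Algebra P (X₁.presheaf.stalk x)]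
    (h : Spec.map (CommRingCat.ofHom (algebraMap P (X₁.presheaf.stalk x))) ≫ j =
      X₁.fromSpecStalk x) : EtPBC.IsIndEtale P (X₁.presheaf.stalk x) := by
  obtain ⟨q, hq⟩ : ∃ q, j q = x := by
    refine ⟨_, (congrArg (fun f => f (IsLocalRing.closedPoint (X₁.presheaf.stalk x))) h).trans
      Scheme.fromSpecStalk_closedPoint⟩
  subst hq
  let O := (Spec (CommRingCat.of P)).presheaf.stalk q
  let _ : Algebra P O := StructureSheaf.stalkAlgebra P q
  have hqp : q.asIdeal.IsPrime := PrimeSpectrum.isPrime (R := P) q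
  have hO : IsLocalization.AtPrime O q.asIdeal := StructureSheaf.IsLocalization.to_stalk P q
  have hiso : IsIso (j.stalkMap q) := isIso_stalkMap_of_flat_of_mono j q
  have hcomm : CommRingCat.ofHom (algebraMap P (X₁.presheaf.stalk (j q))) ≫ j.stalkMap q =
      CommRingCat.ofHom (algebraMap P O) := by
    apply Spec.map_injective
    rw [← cancel_mono j, Spec.map_comp, Category.assoc, h, Scheme.SpecMap_stalkMap_fromSpecStalk,
      Spec.fromSpecStalk_eq]
    rfl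
  let e : X₁.presheaf.stalk (j q) ≃+* O := (asIso (j.stalkMap q)).commRingCatIsoToRingEquiv
  have he : ∀ p : P, e (algebraMap P (X₁.presheaf.stalk (j q)) p) = algebraMap P O p := fun p =>
    congrArg (fun f => f.hom p) hcomm
  let e' : X₁.presheaf.stalk (j q) ≃ₐ[P] O := AlgEquiv.ofRingEquiv (f := e) he
  have : IsLocalization q.asIdeal.primeCompl (X₁.presheaf.stalk (j q)) :=
    IsLocalization.isLocalization_of_algEquiv _ e'.symm
  exact isIndEtale_of_isLocalization q.asIdeal.primeCompl _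

section Descend

variable {Λ A₀ A R C B : Type u} [CommRing Λ] [CommRing A₀] [CommRing A] [CommRing R] [CommRing C]
  [CommRing B] [Algebra Λ A₀] [Algebra Λ R] [Algebra Λ A] [Algebra A₀ A] [IsScalarTower Λ A₀ A]

/-- Base change of an ind-étale algebra. -/
theorem isIndEtale_map [Algebra (A₀ ⊗[Λ] R) (A ⊗[Λ] R)]
    (h : ∀ a r, algebraMap (A₀ ⊗[Λ] R) (A ⊗[Λ] R) (a ⊗ₜ r) = algebraMap A₀ A a ⊗ₜ r)
    (h1 : EtPBC.IsIndEtale A₀ A) : EtPBC.IsIndEtale (A₀ ⊗[Λ] R) (A ⊗[Λ] R) := by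
  let e : ((A₀ ⊗[Λ] R) ⊗[A₀] A) ≃+* A ⊗[Λ] R :=
    (Algebra.TensorProduct.comm A₀ (A₀ ⊗[Λ] R) A).toRingEquiv.trans
      (Algebra.TensorProduct.cancelBaseChange Λ A₀ A A R).toRingEquiv
  have he : ∀ p : A₀ ⊗[Λ] R, e (algebraMap (A₀ ⊗[Λ] R) ((A₀ ⊗[Λ] R) ⊗[A₀] A) p) =
      algebraMap (A₀ ⊗[Λ] R) (A ⊗[Λ] R) p := by
    intro p
    induction p using TensorProduct.induction_on with
    | zero => simp
    | add x y hx hy => rw [map_add, map_add, map_add, hx, hy]
    | tmul a r =>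
      rw [h]
      change Algebra.TensorProduct.cancelBaseChange Λ A₀ A A R
        (Algebra.TensorProduct.comm A₀ (A₀ ⊗[Λ] R) A ((a ⊗ₜ r) ⊗ₜ 1)) = _
      simp [Algebra.smul_def]
  exact Proet.IndEtale.isIndEtale_of_algEquiv (AlgEquiv.ofRingEquiv (f := e) he)
    (Proet.IndEtale.isIndEtale_baseChange A₀ A (A₀ ⊗[Λ] R) h1)

theorem isIndEtale_descend [Algebra C B] [Algebra A B] (gA : A₀ →+* C) (gR : R →+* C)
    [Algebra (A₀ ⊗[Λ] R) C]
    (hPC : ∀ a r, algebraMap (A₀ ⊗[Λ] R) C (a ⊗ₜ r) = gA a * gR r)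
    [Algebra (A ⊗[Λ] R) B]
    (hQB : ∀ a r, algebraMap (A ⊗[Λ] R) B (a ⊗ₜ r) = algebraMap A B a * algebraMap C B (gR r))
    (hc : ∀ a, algebraMap A B (algebraMap A₀ A a) = algebraMap C B (gA a))
    (h1 : EtPBC.IsIndEtale A₀ A) (h2 : EtPBC.IsIndEtale (A₀ ⊗[Λ] R) C)
    (h3 : EtPBC.IsIndEtale C B) : EtPBC.IsIndEtale (A ⊗[Λ] R) B := by
  let _ : Algebra (A₀ ⊗[Λ] R) (A ⊗[Λ] R) :=
    (Algebra.TensorProduct.map (IsScalarTower.toAlgHom Λ A₀ A) (AlgHom.id Λ R)).toRingHom.toAlgebra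
  have hPQ : ∀ a r, algebraMap (A₀ ⊗[Λ] R) (A ⊗[Λ] R) (a ⊗ₜ r) = algebraMap A₀ A a ⊗ₜ r :=
    fun a r => rfl
  let _ : Algebra (A₀ ⊗[Λ] R) B :=
    ((algebraMap C B).comp (algebraMap (A₀ ⊗[Λ] R) C)).toAlgebra
  have t1 : IsScalarTower (A₀ ⊗[Λ] R) C B := .of_algebraMap_eq fun _ => rfl
  have t2 : IsScalarTower (A₀ ⊗[Λ] R) (A ⊗[Λ] R) B := .of_algebraMap_eq fun p => by
    change algebraMap C B (algebraMap (A₀ ⊗[Λ] R) C p) = _
    induction p using TensorProduct.induction_on with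
    | zero => simp
    | add x y hx hy => rw [map_add, map_add, map_add, map_add, hx, hy]
    | tmul a r => rw [hPQ, hPC, hQB, hc, map_mul]
  exact Proet.IndEtale.isIndEtale_cancel (A₀ ⊗[Λ] R) (A ⊗[Λ] R) B (isIndEtale_map hPQ h1)
    (Proet.IndEtale.isIndEtale_trans (A₀ ⊗[Λ] R) C B h2 h3)

end Descend

section Main

variable {X Y X₁ Y₁ : Scheme.{u}} {g : X ⟶ Y} {b : Y₁ ⟶ Y} {b' : X₁ ⟶ X} {g₁ : X₁ ⟶ Y₁}
  (H : IsPullback b' g₁ g b) (x : X₁)

/-- The map of local rings `𝒪_{Y, g (b' x)} → 𝒪_{Y₁, g₁ x}`. -/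
noncomputable def lamA : Y.presheaf.stalk (g (b' x)) ⟶ Y₁.presheaf.stalk (g₁ x) :=
  Y.presheaf.stalkSpecializes (specializes_of_eq (by
    rw [← Scheme.Hom.comp_apply, ← Scheme.Hom.comp_apply, H.w])) ≫ b.stalkMap (g₁ x)

theorem lamA_spec : Spec.map (lamA H x) ≫ Y.fromSpecStalk _ = Y₁.fromSpecStalk (g₁ x) ≫ b := by
  rw [lamA, Spec.map_comp, Category.assoc, Scheme.SpecMap_stalkSpecializes_fromSpecStalk,
    Scheme.SpecMap_stalkMap_fromSpecStalk]

theorem lamA_comm : lamA H x ≫ g₁.stalkMap x = g.stalkMap (b' x) ≫ b'.stalkMap x := by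
  apply Spec.map_injective
  rw [← cancel_mono (Y.fromSpecStalk _), Spec.map_comp, Spec.map_comp, Category.assoc,
    Category.assoc, lamA_spec, Scheme.SpecMap_stalkMap_fromSpecStalk,
    Scheme.SpecMap_stalkMap_fromSpecStalk_assoc, Scheme.SpecMap_stalkMap_fromSpecStalk_assoc,
    H.w]

include H in
/-- Abstract form. -/
theorem isIndEtale_stalk {Λ A₀ R : Type u} [CommRing Λ] [CommRing A₀] [CommRing R] [Algebra Λ A₀]
    [Algebra Λ R] (i : Spec (CommRingCat.of Λ) ⟶ Y) [Mono i] (jA : Spec (CommRingCat.of A₀) ⟶ Y₁)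
    (jR : Spec (CommRingCat.of R) ⟶ X) [Flat jA] [Flat jR] [Mono jA] [Mono jR]
    (hA : Spec.map (CommRingCat.ofHom (algebraMap Λ A₀)) ≫ i = jA ≫ b)
    (hR : Spec.map (CommRingCat.ofHom (algebraMap Λ R)) ≫ i = jR ≫ g)
    (gA : A₀ →+* X₁.presheaf.stalk x) (gR : R →+* X₁.presheaf.stalk x)
    (hgA : Spec.map (CommRingCat.ofHom gA) ≫ jA = X₁.fromSpecStalk x ≫ g₁)
    (hgR : Spec.map (CommRingCat.ofHom gR) ≫ jR = X₁.fromSpecStalk x ≫ b')
    [Algebra (A₀ ⊗[Λ] R) (X₁.presheaf.stalk x)]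
    (hPC : ∀ a r, algebraMap (A₀ ⊗[Λ] R) (X₁.presheaf.stalk x) (a ⊗ₜ r) = gA a * gR r) :
    EtPBC.IsIndEtale (A₀ ⊗[Λ] R) (X₁.presheaf.stalk x) := by
  obtain ⟨j, hj1, hj2, hj3, hj4⟩ := exists_j H i jA jR hA hR
  refine isIndEtale_of_flat_mono j x ?_
  apply H.hom_ext
  · rw [Category.assoc, hj4, ← Spec.map_comp_assoc]
    have e1 : CommRingCat.ofHom (Algebra.TensorProduct.includeRight
        (R := Λ) (A := A₀) (B := R)).toRingHom ≫
        CommRingCat.ofHom (algebraMap (A₀ ⊗[Λ] R) (X₁.presheaf.stalk x)) =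
        CommRingCat.ofHom gR := by
      ext r
      change algebraMap (A₀ ⊗[Λ] R) (X₁.presheaf.stalk x) (1 ⊗ₜ r) = gR r
      rw [hPC, map_one, one_mul]
    rw [e1, hgR]
  · rw [Category.assoc, hj3, ← Spec.map_comp_assoc]
    have e1 : CommRingCat.ofHom (Algebra.TensorProduct.includeLeftRingHom
        (R := Λ) (A := A₀) (B := R)) ≫
        CommRingCat.ofHom (algebraMap (A₀ ⊗[Λ] R) (X₁.presheaf.stalk x)) =
        CommRingCat.ofHom gA := by
      ext a
      change algebraMap (A₀ ⊗[Λ] R) (X₁.presheaf.stalk x) (a ⊗ₜ 1) = gA a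
      rw [hPC, map_one, mul_one]
    rw [e1, hgA]

theorem lamA_comm' : (g₁.stalkMap x).hom.comp (lamA H x).hom =
    (b'.stalkMap x).hom.comp (g.stalkMap (b' x)).hom :=
  congrArg CommRingCat.Hom.hom (lamA_comm H x)

/-- **Main result**: `RX` is ind-étale over `RY ⊗ 𝒪_{X, b' x}`. -/
theorem isIndEtale_tensor {RY RX : Type u} [CommRing RY] [CommRing RX] [IsLocalRing RY]
    [IsLocalRing RX] [Algebra (Y₁.presheaf.stalk (g₁ x)) RY]
    [IsLocalHom (algebraMap (Y₁.presheaf.stalk (g₁ x)) RY)]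
    [Hensel.IsStrictHenselization (Y₁.presheaf.stalk (g₁ x)) RY]
    [Algebra (X₁.presheaf.stalk x) RX] [IsLocalHom (algebraMap (X₁.presheaf.stalk x) RX)]
    [Hensel.IsStrictHenselization (X₁.presheaf.stalk x) RX]
    [Algebra RY RX]
    (hc : (algebraMap RY RX).comp (algebraMap (Y₁.presheaf.stalk (g₁ x)) RY) =
      (algebraMap (X₁.presheaf.stalk x) RX).comp (g₁.stalkMap x).hom)
    [Algebra (Y.presheaf.stalk (g (b' x))) (X.presheaf.stalk (b' x))]
    [Algebra (Y.presheaf.stalk (g (b' x))) RY]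
    [Algebra (RY ⊗[Y.presheaf.stalk (g (b' x))] X.presheaf.stalk (b' x)) RX]
    (hR : algebraMap (Y.presheaf.stalk (g (b' x))) (X.presheaf.stalk (b' x)) =
      (g.stalkMap (b' x)).hom)
    (hA : algebraMap (Y.presheaf.stalk (g (b' x))) RY =
      (algebraMap (Y₁.presheaf.stalk (g₁ x)) RY).comp (lamA H x).hom)
    (hQB : ∀ a r, algebraMap (RY ⊗[Y.presheaf.stalk (g (b' x))] X.presheaf.stalk (b' x)) RX
      (a ⊗ₜ r) = algebraMap RY RX a * algebraMap (X₁.presheaf.stalk x) RX ((b'.stalkMap x).hom r)) :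
    EtPBC.IsIndEtale (RY ⊗[Y.presheaf.stalk (g (b' x))] X.presheaf.stalk (b' x)) RX := by
  let iA : Algebra (Y.presheaf.stalk (g (b' x))) (Y₁.presheaf.stalk (g₁ x)) :=
    (lamA H x).hom.toAlgebra
  have t1 : IsScalarTower (Y.presheaf.stalk (g (b' x))) (Y₁.presheaf.stalk (g₁ x)) RY :=
    .of_algebraMap_eq' hA
  have hcomm : (g₁.stalkMap x).hom.comp
        (algebraMap (Y.presheaf.stalk (g (b' x))) (Y₁.presheaf.stalk (g₁ x))) =
      (b'.stalkMap x).hom.comp
        (algebraMap (Y.presheaf.stalk (g (b' x))) (X.presheaf.stalk (b' x))) := by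
    rw [hR]
    exact lamA_comm' H x
  let ψ : Y₁.presheaf.stalk (g₁ x) ⊗[Y.presheaf.stalk (g (b' x))] X.presheaf.stalk (b' x) →+*
      X₁.presheaf.stalk x := liftHom (g₁.stalkMap x).hom (b'.stalkMap x).hom hcomm
  have hψ : ∀ a r, ψ (a ⊗ₜ r) = (g₁.stalkMap x).hom a * (b'.stalkMap x).hom r :=
    liftHom_tmul _ _ hcomm
  let iψ : Algebra (Y₁.presheaf.stalk (g₁ x) ⊗[Y.presheaf.stalk (g (b' x))]
      X.presheaf.stalk (b' x)) (X₁.presheaf.stalk x) := ψ.toAlgebra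
  have h2 : EtPBC.IsIndEtale (Y₁.presheaf.stalk (g₁ x) ⊗[Y.presheaf.stalk (g (b' x))]
      X.presheaf.stalk (b' x)) (X₁.presheaf.stalk x) := by
    have e := @isIndEtale_stalk X Y X₁ Y₁ g b b' g₁ H x (Y.presheaf.stalk (g (b' x)))
      (Y₁.presheaf.stalk (g₁ x)) (X.presheaf.stalk (b' x))
      (CommRingCat.commRing _) (CommRingCat.commRing _) (CommRingCat.commRing _) iA inferInstance
      (Y.fromSpecStalk (g (b' x))) _ (Y₁.fromSpecStalk (g₁ x))
      (X.fromSpecStalk (b' x)) _ _ _ _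
    refine e ?_ ?_ (g₁.stalkMap x).hom (b'.stalkMap x).hom ?_ ?_ hψ
    · exact lamA_spec H x
    · rw [hR]
      exact Scheme.SpecMap_stalkMap_fromSpecStalk g
    · exact Scheme.SpecMap_stalkMap_fromSpecStalk g₁
    · exact Scheme.SpecMap_stalkMap_fromSpecStalk b'
  exact isIndEtale_descend (g₁.stalkMap x).hom (b'.stalkMap x).hom hψ hQB
    (fun a => RingHom.congr_fun hc a) (isIndEtale_of_isStrictHenselization _ RY) h2
    (isIndEtale_of_isStrictHenselization _ RX)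

end Main

end Groth.Agent.Etbc.H193.PbkLocal
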