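import Groth.Agent.Etbc.H193.Subm
import Groth.Agent.Etbc.H193.FibField
import Groth.Agent.Etbc.H193.PbkLocal

/-!
# Zero-acyclicity of strict localizations over a point-like base
-/

set_option autoImplicit false
universe u

open CategoryTheory CategoryTheory.Limits AlgebraicGeometry TensorProduct IsLocalRing

namespace Groth.Agent.Etbc.H193.Main

open Groth.Agent.Sga4A.EtStalk Groth.Agent.Etbc.H192.ZeroAcyc Groth.Agent.Etbc.H193.Subm
  Groth.Agent.Etbc.H193.FibField

theorem flat_of_isIndEtale {A B : Type u} [CommRing A] [CommRing B] [Algebra A B]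
    (h : EtPBC.IsIndEtale A B) : Module.Flat A B := by
  have hlaz : Pi1C.IndEtaleWE.Lazard A B := by
    intro P _ _ _ g
    obtain ⟨W, a, b, u, v, c, h⟩ := (Proet.IndEtale.isIndEtale_iff_factor A B).1 h P inferInstance g
    exact ⟨W, a, b, c, u, v, h⟩
  exact Pi1C.IndEtaleWE.flat_of_lazard hlaz

variable {Λ R A B : Type u} [CommRing Λ] [IsLocalRing Λ]
  (hΛ : ∀ x ∈ maximalIdeal Λ, IsNilpotent x)
  [CommRing A] [CommRing R] [CommRing B]
  [IsLocalRing B] [Algebra Λ A] [Algebra Λ R] [Algebra A B]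
  (rB : R →+* B) [Algebra (A ⊗[Λ] R) B]
  (hQB : ∀ a r, algebraMap (A ⊗[Λ] R) B (a ⊗ₜ r) = algebraMap A B a * rB r)
  (hB : EtPBC.IsIndEtale (A ⊗[Λ] R) B)

include hΛ hQB hB in
theorem etSubmersive_aux [IsLocalRing A] [IsLocalHom (algebraMap A B)] :
    EtSubmersive (Spec.map (CommRingCat.ofHom (algebraMap A B))) := by
  have hsurj : Surjective (Spec.map (CommRingCat.ofHom (residue Λ))) := by
    refine ⟨fun y => ⟨closedPoint (ResidueField Λ), ?_⟩⟩
    have h1 : ∀ y : PrimeSpectrum Λ, y = closedPoint Λ := by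
      intro y
      apply PrimeSpectrum.ext
      refine (IsLocalRing.le_maximalIdeal y.isPrime.ne_top).antisymm fun x hx => ?_
      exact nilradical_le_prime y.asIdeal (hΛ x hx)
    exact (h1 _).trans (h1 _).symm
  have hcl : IsClosedImmersion (Spec.map (CommRingCat.ofHom (residue Λ))) :=
    IsClosedImmersion.spec_of_surjective _ residue_surjective
  have hfl : Flat (Spec.map (CommRingCat.ofHom (algebraMap (A ⊗[Λ] R) B))) := by
    have h1 : Module.Flat (A ⊗[Λ] R) B := flat_of_isIndEtale hB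
    rw [Flat.SpecMap_iff]
    exact RingHom.flat_algebraMap_iff.2 h1
  refine etSubmersive_of_flat_tensor (K := ResidueField Λ)
    (Spec.map (CommRingCat.ofHom (residue Λ)))
    (Spec.map (CommRingCat.ofHom (algebraMap Λ A)))
    (Spec.map (CommRingCat.ofHom (algebraMap Λ R)))
    (Spec.map (CommRingCat.ofHom
        (Algebra.TensorProduct.includeLeftRingHom (R := Λ) (A := A) (B := R))))
    (Spec.map (CommRingCat.ofHom
        (Algebra.TensorProduct.includeRight (R := Λ) (A := A) (B := R)).toRingHom))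
    (isPullback_SpecMap_of_isPushout _ _ _ _ (CommRingCat.isPushout_tensorProduct Λ A R))
    (Spec.map (CommRingCat.ofHom (algebraMap (A ⊗[Λ] R) B))) _ ?_ (closedPoint B) ?_
  · rw [← Spec.map_comp]
    congr 1
    ext a
    change algebraMap (A ⊗[Λ] R) B (a ⊗ₜ 1) = algebraMap A B a
    rw [hQB, map_one, mul_one]
  · intro y
    have h1 : (Spec.map (CommRingCat.ofHom (algebraMap A B))) (closedPoint B) = closedPoint A :=
      comap_closedPoint (algebraMap A B)
    rw [h1]
    exact specializes_closedPoint y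

include hΛ hQB hB in
theorem sepGeomConnected_aux [HenselianLocalRing A] [IsSepClosed (ResidueField A)]
    [IsLocalHom (algebraMap A B)] :
    SepGeomConnected (Spec.map (CommRingCat.ofHom (algebraMap A B))) := by
  refine sepGeomConnected_of_algClosed _ fun Ω _ _ s => ?_
  obtain ⟨φ, rfl⟩ := Spec.map_surjective s
  let _ : Algebra A Ω := φ.hom.toAlgebra
  have h1 : ConnectedSpace (PrimeSpectrum (B ⊗[A] Ω)) := connected_fibre hΛ rB hQB hB Ω
  have h2 : IsPullback _ _ (Spec.map (CommRingCat.ofHom (algebraMap A B)))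
      (Spec.map (CommRingCat.ofHom (algebraMap A Ω))) :=
    isPullback_SpecMap_of_isPushout _ _ _ _ (CommRingCat.isPushout_tensorProduct A B Ω)
  have h3 : ConnectedSpace ↥(Spec (CommRingCat.of (B ⊗[A] Ω))) := h1
  exact (Scheme.homeoOfIso h2.flip.isoPullback).surjective.connectedSpace
    (Scheme.homeoOfIso h2.flip.isoPullback).continuous

include hΛ hQB hB in
theorem isZeroAcyclic_aux [HenselianLocalRing A] [IsSepClosed (ResidueField A)]
    [IsLocalHom (algebraMap A B)] :
    EtAcyc.IsZeroAcyclic (Spec.map (CommRingCat.ofHom (algebraMap A B))) :=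
  isZeroAcyclic_of_connected _ (etSubmersive_aux hΛ rB hQB hB)
    (sepGeomConnected_aux hΛ rB hQB hB)

/-- The maximal ideal of a local ring of a discrete scheme is nil. -/
theorem isNilpotent_of_mem_maximalIdeal {Y : Scheme.{u}} [DiscreteTopology Y] (y : Y)
    (x : Y.presheaf.stalk y) (hx : x ∈ maximalIdeal (Y.presheaf.stalk y)) : IsNilpotent x := by
  rw [nilpotent_iff_mem_prime]
  intro J hJ
  have h1 : ∀ z : ↥(Spec (Y.presheaf.stalk y)), z = closedPoint (Y.presheaf.stalk y) := by
    intro z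
    apply (Y.fromSpecStalk y).isEmbedding.injective
    have h2 : (Y.fromSpecStalk y) z ⤳ y := by
      have : (Y.fromSpecStalk y) z ∈ Set.range (Y.fromSpecStalk y) := ⟨z, rfl⟩
      rw [Scheme.range_fromSpecStalk] at this
      exact this
    rw [Scheme.fromSpecStalk_closedPoint]
    exact h2.eq
  have h2 : (⟨J, hJ⟩ : PrimeSpectrum (Y.presheaf.stalk y)) = closedPoint _ := h1 _
  have h3 : J = maximalIdeal (Y.presheaf.stalk y) := congrArg PrimeSpectrum.asIdeal h2
  rw [h3]
  exact hx

/-- **Main theorem.** -/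
theorem isULocZeroAcyclic {X Y : Scheme.{u}} (g : X ⟶ Y) [DiscreteTopology Y] :
    EtAcyc.IsULocZeroAcyclic g := by
  intro X₁ Y₁ g₁ b' b H x RY RX _ _ _ _ _ _ hRY _ _ hRX _ _ hc
  have hh : HenselianLocalRing RY := hRY.henselian
  have hs : IsSepClosed (ResidueField RY) := hRY.isSepClosure.sep_closed
  let iR : Algebra (Y.presheaf.stalk (g (b' x))) (X.presheaf.stalk (b' x)) :=
    (g.stalkMap (b' x)).hom.toAlgebra
  let iA : Algebra (Y.presheaf.stalk (g (b' x))) RY :=
    ((algebraMap (Y₁.presheaf.stalk (g₁ x)) RY).comp (PbkLocal.lamA H x).hom).toAlgebra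
  let rB : X.presheaf.stalk (b' x) →+* RX :=
    (algebraMap (X₁.presheaf.stalk x) RX).comp (b'.stalkMap x).hom
  have hcomm : (algebraMap RY RX).comp (algebraMap (Y.presheaf.stalk (g (b' x))) RY) =
      rB.comp (algebraMap (Y.presheaf.stalk (g (b' x))) (X.presheaf.stalk (b' x))) := by
    change (algebraMap RY RX).comp ((algebraMap (Y₁.presheaf.stalk (g₁ x)) RY).comp
      (PbkLocal.lamA H x).hom) = _
    rw [← RingHom.comp_assoc, hc, RingHom.comp_assoc, PbkLocal.lamA_comm' H x]
    rfl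
  let ψ : RY ⊗[Y.presheaf.stalk (g (b' x))] X.presheaf.stalk (b' x) →+* RX :=
    FibConn.liftHom (algebraMap RY RX) rB hcomm
  have hψ : ∀ a r, ψ (a ⊗ₜ r) = algebraMap RY RX a * rB r :=
    FibConn.liftHom_tmul _ _ hcomm
  let iQ : Algebra (RY ⊗[Y.presheaf.stalk (g (b' x))] X.presheaf.stalk (b' x)) RX := ψ.toAlgebra
  have hB : EtPBC.IsIndEtale (RY ⊗[Y.presheaf.stalk (g (b' x))] X.presheaf.stalk (b' x)) RX :=
    PbkLocal.isIndEtale_tensor H x hc rfl rfl hψ
  exact isZeroAcyclic_aux (Λ := Y.presheaf.stalk (g (b' x))) (R := X.presheaf.stalk (b' x))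
    (fun z hz => isNilpotent_of_mem_maximalIdeal _ z hz) rB hψ hB

end Groth.Agent.Etbc.H193.Main
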