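import Groth.Agent.Etbc.H192.ZeroAcyc

/-!
# Submersiveness after étale base change of flat morphisms up to nilpotents

* `etSubmersive_comp`, `etSubmersive_of_comp`;
* `surjective_of_local`: a flat morphism to a scheme specializing to a point in the image is surjective;
* `flat_snd_of_field`: base changes of morphisms `SB → SA ×_{SΛ} SR → SA` to a point of `SΛ`;
* `etSubmersive_of_flat_tensor`: the final criterion.
-/

set_option autoImplicit false
universe u

open CategoryTheory CategoryTheory.Limits AlgebraicGeometry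

namespace Groth.Agent.Etbc.H193.Subm

open Groth.Agent.Sga4A.EtStalk Groth.Agent.Etbc.H192.ZeroAcyc

theorem etSubmersive_comp {X Y Z : Scheme.{u}} (p : X ⟶ Y) (q : Y ⟶ Z) (hp : EtSubmersive p)
    (hq : EtSubmersive q) : EtSubmersive (p ≫ q) := by
  intro U
  have hU : Etale U.hom := inferInstance
  have h1 : Topology.IsQuotientMap (pullback.fst (pullback.snd U.hom q) p) :=
    isQuotientMap_fst_of p hp (pullback.snd U.hom q)
  have h2 : Topology.IsQuotientMap (pullback.fst U.hom q) := isQuotientMap_fst_of q hq U.hom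
  have h3 : Topology.IsQuotientMap (pullbackLeftPullbackSndIso U.hom q p).inv :=
    (Scheme.homeoOfIso (pullbackLeftPullbackSndIso U.hom q p).symm).isQuotientMap
  have h4 : bcFst (p ≫ q) U = (pullbackLeftPullbackSndIso U.hom q p).inv ≫
      pullback.fst (pullback.snd U.hom q) p ≫ pullback.fst U.hom q :=
    (pullbackLeftPullbackSndIso_inv_fst U.hom q p).symm
  rw [h4]
  exact (h2.comp h1).comp h3

theorem etSubmersive_of_comp {X Y Z : Scheme.{u}} (p : X ⟶ Y) (q : Y ⟶ Z)
    (h : EtSubmersive (p ≫ q)) : EtSubmersive q := by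
  intro U
  have hU : Etale U.hom := inferInstance
  have h1 : Topology.IsQuotientMap (pullback.fst U.hom (p ≫ q)) := h U
  let i : pullback U.hom (p ≫ q) ⟶ pullback U.hom q :=
    pullback.lift (pullback.fst _ _) (pullback.snd _ _ ≫ p)
      (by rw [Category.assoc, pullback.condition])
  have h2 : i ≫ pullback.fst U.hom q = pullback.fst U.hom (p ≫ q) := pullback.lift_fst _ _ _
  rw [← h2] at h1
  exact Topology.IsQuotientMap.of_comp i.continuous (pullback.fst U.hom q).continuous h1

/-- A flat morphism whose target specializes to a point of the image is surjective. -/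
theorem surjective_of_local {X Y : Scheme.{u}} (f : X ⟶ Y) [Flat f] (x : X)
    (h : ∀ y : Y, y ⤳ f x) : Surjective f := by
  refine ⟨fun y => ?_⟩
  obtain ⟨w, -, hw⟩ := (Flat.generalizingMap f) (h y)
  exact ⟨w, hw⟩

/-- Base change of `SB → SQ = SA ×_{SΛ} SR → SA` to a point of `SΛ` is flat. -/
theorem flat_snd_of_field {SΛ SA SR SQ SB : Scheme.{u}} {K : Type u} [Field K]
    (k : Spec (CommRingCat.of K) ⟶ SΛ) (a : SA ⟶ SΛ) (r : SR ⟶ SΛ) (q : SQ ⟶ SA) (sR : SQ ⟶ SR)
    (H : IsPullback q sR a r) (h : SB ⟶ SQ) [Flat h] :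
    Flat (pullback.snd (h ≫ q) (pullback.fst a k)) := by
  have P1 : IsPullback (pullback.fst q (pullback.fst a k) ≫ sR) (pullback.snd q (pullback.fst a k))
      r (pullback.fst a k ≫ a) :=
    (IsPullback.of_hasPullback q (pullback.fst a k)).paste_horiz H.flip
  rw [pullback.condition] at P1
  have P2 : IsPullback (pullback.lift (pullback.fst q (pullback.fst a k) ≫ sR)
      (pullback.snd q (pullback.fst a k) ≫ pullback.snd a k) (by rw [P1.w, Category.assoc]))
      (pullback.snd q (pullback.fst a k)) (pullback.snd r k) (pullback.snd a k) := by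
    refine IsPullback.of_right (h₁₂ := pullback.fst r k) (v₁₃ := r) (h₂₂ := k) ?_
      (pullback.lift_snd _ _ _) (IsPullback.of_hasPullback r k)
    rw [pullback.lift_fst]
    exact P1
  have F0 : Flat (pullback.snd r k) := inferInstance
  have F1 : Flat (pullback.snd q (pullback.fst a k)) := MorphismProperty.of_isPullback P2 F0
  have F2 : Flat (pullback.map (h ≫ q) (pullback.fst a k) q (pullback.fst a k) h (𝟙 _) (𝟙 _)
      (by simp) (by simp)) :=
    MorphismProperty.pullbackMap (P := @Flat) inferInstance inferInstance rfl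
      (Category.id_comp _).symm
  have e : pullback.map (h ≫ q) (pullback.fst a k) q (pullback.fst a k) h (𝟙 _) (𝟙 _)
      (by simp) (by simp) ≫ pullback.snd q (pullback.fst a k) =
      pullback.snd (h ≫ q) (pullback.fst a k) := by
    rw [pullback.lift_snd, Category.comp_id]
  rw [← e]
  infer_instance

/-- The final criterion. -/
theorem etSubmersive_of_flat_tensor {SΛ SA SR SQ SB : Scheme.{u}} {K : Type u} [Field K]
    (k : Spec (CommRingCat.of K) ⟶ SΛ) [IsClosedImmersion k] [Surjective k] (a : SA ⟶ SΛ)
    (r : SR ⟶ SΛ) (q : SQ ⟶ SA) (sR : SQ ⟶ SR) (H : IsPullback q sR a r) (h : SB ⟶ SQ) [Flat h]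
    (f : SB ⟶ SA) (hf : h ≫ q = f) [QuasiCompact f] (x : SB) (hx : ∀ y : SA, y ⤳ f x) :
    EtSubmersive f := by
  subst hf
  let t := pullback.fst a k
  let fb := pullback.snd (h ≫ q) t
  have hfl : Flat fb := flat_snd_of_field k a r q sR H h
  have hqc : QuasiCompact fb := inferInstance
  have hts : Surjective t := inferInstance
  have htc : IsClosedImmersion t := inferInstance
  obtain ⟨z₀, hz₀⟩ := hts.surj ((h ≫ q) x)
  obtain ⟨w₀, hw1, hw2⟩ := Scheme.Pullback.exists_preimage_pullback x z₀ hz₀.symm
  have hs : Surjective fb := by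
    refine surjective_of_local fb w₀ fun z => ?_
    have h1 : fb w₀ = z₀ := hw2
    rw [h1, ← t.isClosedEmbedding.isInducing.specializes_iff, hz₀]
    exact hx _
  have e1 : EtSubmersive fb := etSubmersive_of_flat fb
  have e2 : EtSubmersive t := etSubmersive_of_universallyClosed t
  have e3 := etSubmersive_comp fb t e1 e2
  have e4 : fb ≫ t = pullback.fst (h ≫ q) t ≫ (h ≫ q) := pullback.condition.symm
  rw [e4] at e3
  exact etSubmersive_of_comp _ _ e3

end Groth.Agent.Etbc.H193.Subm
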